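import Groth.Agent.Lib.FibDense50.Crit
import Groth.Agent.Lib.Gen50.Const
import Groth.Agent.Lib.FinCond.Components
import Groth.Agent.S0066
import Groth.Prelude.Def_Pi1

/-!
# Constant sheaves on normal schemes and dense open subschemes
-/

set_option autoImplicit false
set_option linter.style.haveILetI false
set_option backward.isDefEq.respectTransparency false

universe u

open CategoryTheory CategoryTheory.Limits AlgebraicGeometry Opposite

noncomputable section

namespace Groth.Agent.Lib.FibDense50.Const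

open Groth.Agent.Lib.EtSite Groth.Agent.Lib.EtSite.Basic Groth.Agent.Lib.EtGerm.Basic
open Groth.Agent.Lib.LCStrict50.Const

variable {X : Scheme.{u}} (M : AddCommGrpCat.{u + 1})

theorem agree_cover {V : X.Etale} (s : EtCoh.sect (cst X M) V) (v : V.left) :
    ∃ m : M, v ∈ agree (cst X M) V s (csec M V m) := by
  obtain ⟨p, hp⟩ := exists_fiber_geomPoint V v
  obtain ⟨p₀, -⟩ : ∃ p₀ : (Scheme.pointSmallEtale (geomPoint X (V.hom.base v))).fiber.obj (EtCoh.top X), True :=
    ⟨mkFiber _ (EtCoh.top X) _ (Category.comp_id _), trivial⟩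
  obtain ⟨m, hm⟩ := (Gen50.Const.germ_csec_bijective M _ p₀).2 (germ (cst X M) _ V p s)
  refine ⟨m, hp ▸ (germ_eq_iff (cst X M) _ V p s (csec M V m)).1 (hm.symm.trans ?_)⟩
  rw [← res_csec M ((EtCore.topIsTerminal X).from V) m, germ_map]
  exact congrArg (fun r => germ (cst X M) _ _ r (csec M (EtCoh.top X) m)) (Gen50.Const.fiber_eq _ _)

theorem agree_unique {V : X.Etale} (s : EtCoh.sect (cst X M) V) (v : V.left) {m m' : M}
    (h : v ∈ agree (cst X M) V s (csec M V m)) (h' : v ∈ agree (cst X M) V s (csec M V m')) : m = m' := by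
  obtain ⟨p, hp⟩ := exists_fiber_geomPoint V v
  have e := ((germ_eq_iff (cst X M) _ V p _ _).2 (hp.symm ▸ h)).symm.trans
    ((germ_eq_iff (cst X M) _ V p _ _).2 (hp.symm ▸ h'))
  rw [← res_csec M ((EtCore.topIsTerminal X).from V) m, ← res_csec M ((EtCore.topIsTerminal X).from V) m',
    germ_map, germ_map] at e
  exact (Gen50.Const.germ_csec_bijective M _ _).1 e

theorem agree_trans {V : X.Etale} {s t r : EtCoh.sect (cst X M) V} {v : V.left}
    (h : v ∈ agree (cst X M) V s t) (h' : v ∈ agree (cst X M) V t r) : v ∈ agree (cst X M) V s r := by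
  obtain ⟨p, hp⟩ := exists_fiber_geomPoint V v
  exact hp ▸ (germ_eq_iff (cst X M) _ V p _ _).1
    (((germ_eq_iff (cst X M) _ V p _ _).2 (hp.symm ▸ h)).trans
      ((germ_eq_iff (cst X M) _ V p _ _).2 (hp.symm ▸ h')))

theorem agree_symm {V : X.Etale} {s t : EtCoh.sect (cst X M) V} {v : V.left}
    (h : v ∈ agree (cst X M) V s t) : v ∈ agree (cst X M) V t s :=
  let ⟨W, g, he, hv⟩ := h; ⟨W, g, he.symm, hv⟩

theorem agree_map {V' V : X.Etale} (g : V' ⟶ V) {s t : EtCoh.sect (cst X M) V} {v' : V'.left}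
    (h : g.left.base v' ∈ agree (cst X M) V s t) :
    v' ∈ agree (cst X M) V' ((cst X M).obj.map g.op s) ((cst X M).obj.map g.op t) := by
  obtain ⟨p, hp⟩ := exists_fiber_geomPoint V' v'
  have h' : fiberPt ((Scheme.pointSmallEtale (geomPoint X (V'.hom.base v'))).fiber.map g p) ∈
      agree (cst X M) V s t := by rw [fiberPt_map, hp]; exact h
  refine hp ▸ (germ_eq_iff (cst X M) _ V' p _ _).1 ?_
  rw [germ_map, germ_map]
  exact (germ_eq_iff (cst X M) _ V _ _ _).2 h' 

theorem eq_of_agree {V : X.Etale} {s t : EtCoh.sect (cst X M) V}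
    (h : ∀ v, v ∈ agree (cst X M) V s t) : s = t :=
  Stalk.sections_ext (cst X M) s t fun v => let ⟨W, g, he, w, hw⟩ := h v; ⟨W, g, he, w, hw⟩

variable {U : Scheme.{u}} (j : U ⟶ X) [IsOpenImmersion j]

theorem exists_opens_irreducible (hX : Pi1.IsNormalScheme X) [IsLocallyNoetherian X] (V : X.Etale) (v : V.left) :
    ∃ O : V.left.Opens, v ∈ O ∧ IsIrreducible (O : Set V.left) := by
  haveI : Etale V.hom := V.prop
  haveI : IsLocallyNoetherian ((Functor.fromPUnit X).obj V.right) := ‹IsLocallyNoetherian X›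
  haveI : IsLocallyNoetherian V.left := LocallyOfFiniteType.isLocallyNoetherian V.hom
  haveI : IsDomain (V.left.presheaf.stalk v) := ((S0066.result V.hom v).2 (hX (V.hom.base v))).1
  refine FinCond.exists_irreducible_nhd V.left v ?_
  simpa [nilradical_eq_zero] using (Ideal.isPrime_bot : (⊥ : Ideal (V.left.presheaf.stalk v)).IsPrime)

/-- On a normal locally noetherian scheme constant sheaves are insensitive to dense open subschemes. -/
theorem isIso_unit (hX : Pi1.IsNormalScheme X) [IsLocallyNoetherian X] (hd : DenseRange j.base) :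
    IsIso ((EtCoh.pullPushAdj j).unit.app (cst X M)) := by
  have hdense : ∀ V : X.Etale, DenseRange (Crit.restrHom j V).left.base := fun V => by
    haveI : Etale V.hom := V.prop
    change Dense (Set.range (Crit.restrHom j V).left.base)
    rw [Crit.range_restrHom]
    exact hd.preimage V.hom.isOpenMap
  refine Crit.isIso_of_local j _ (fun V s t hst => eq_of_agree M fun v => ?_) fun V t v => ?_
  · obtain ⟨m, hm⟩ := agree_cover M s v
    obtain ⟨m', hm'⟩ := agree_cover M t v
    obtain ⟨w, ⟨hw, hw'⟩⟩ := (hdense V).exists_mem_open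
      ((isOpen_agree (cst X M) V s (csec M V m)).inter (isOpen_agree (cst X M) V t (csec M V m'))) ⟨v, hm, hm'⟩
    have e1 := agree_map M (Crit.restrHom j V) hw
    have e2 := agree_map M (Crit.restrHom j V) hw'
    rw [hst, res_csec] at e1
    rw [res_csec] at e2
    obtain rfl := agree_unique M _ w e1 e2
    exact agree_trans M hm (agree_symm M hm')
  · obtain ⟨O, hvO, hO⟩ := exists_opens_irreducible hX V v
    haveI : Etale V.hom := V.prop
    let V' : X.Etale := Scheme.Etale.mk (O.ι ≫ V.hom)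
    let a : V' ⟶ V := MorphismProperty.Over.homMk O.ι rfl
    refine ⟨V', a, ⟨⟨v, hvO⟩, rfl⟩, ?_⟩
    let V'' := (EtShriek.compEtale j).obj ((EtCoh.bc j).obj V')
    let r := Crit.restrHom j V'
    let t' : EtCoh.sect (cst X M) V'' := (cst X M).obj.map ((EtShriek.compEtale j).map ((EtCoh.bc j).map a)).op t
    haveI : IrreducibleSpace V'.left := Subtype.irreducibleSpace hO
    obtain ⟨w₀⟩ : Nonempty V''.left := by
      obtain ⟨w, -⟩ := (hdense V').exists_mem_open isOpen_univ ⟨⟨v, hvO⟩, trivial⟩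
      exact ⟨w⟩
    obtain ⟨m, hm⟩ := agree_cover M t' w₀
    refine ⟨csec M V' m, ?_⟩
    rw [res_csec]
    refine (eq_of_agree M fun w => ?_).symm
    obtain ⟨m', hm'⟩ := agree_cover M t' w
    have ho := r.left.isOpenEmbedding.isOpenMap
    obtain ⟨_, ⟨w₁, h1, rfl⟩, ⟨w₂, h2, he⟩⟩ := nonempty_preirreducible_inter
      (ho _ (isOpen_agree (cst X M) V'' t' (csec M V'' m)))
      (ho _ (isOpen_agree (cst X M) V'' t' (csec M V'' m'))) ⟨_, w₀, hm, rfl⟩ ⟨_, w, hm', rfl⟩
    obtain rfl := r.left.isOpenEmbedding.injective he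
    obtain rfl := agree_unique M t' _ h1 h2
    exact hm'

end Groth.Agent.Lib.FibDense50.Const
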