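import Groth.Agent.Lib.EtJ.Basic
import Groth.Agent.Lib.EtSite.Stalk
import Mathlib.CategoryTheory.Balanced
import Mathlib.CategoryTheory.Sites.LocallySurjective

/-!
# The unit to the direct image along an open immersion, on sections
-/

set_option autoImplicit false
set_option linter.style.haveILetI false
set_option backward.isDefEq.respectTransparency false

universe u

open CategoryTheory CategoryTheory.Limits AlgebraicGeometry Opposite

noncomputable section

namespace Groth.Agent.Lib.FibDense50.Crit

open Groth.Agent.Lib.EtSite Groth.Agent.Lib.EtSite.Basic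

variable {U X : Scheme.{u}} (j : U ⟶ X) [IsOpenImmersion j]

/-- The part of `V` over `U`, as a morphism of étale `X`-schemes. -/
abbrev restrHom (V : X.Etale) : (EtShriek.compEtale j).obj ((EtCoh.bc j).obj V) ⟶ V :=
  (EtJ.Basic.compEtaleAdj j).counit.app V

theorem left_restrHom (V : X.Etale) : (restrHom j V).left = pullback.fst V.hom j := by
  simp [restrHom, EtJ.Basic.compEtaleAdj, MorphismProperty.Over.mapPullbackAdj]

instance (V : X.Etale) : IsOpenImmersion (restrHom j V).left := by
  rw [left_restrHom]; infer_instance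

theorem range_restrHom (V : X.Etale) :
    Set.range (restrHom j V).left.base = V.hom.base ⁻¹' Set.range j.base := by
  rw [left_restrHom]
  exact IsOpenImmersion.range_pullbackFst _ _

theorem isIso_iff (G : EtCoh.Ab X) :
    IsIso ((EtCoh.pullPushAdj j).unit.app G) ↔
      ∀ V : X.Etale, Function.Bijective (G.obj.map (restrHom j V).op) := by
  have h : (EtCoh.pullPushAdj j).unit.app G ≫
      (EtCoh.push j).map ((EtJ.Basic.pullIsoRestr j).hom.app G) = (EtJ.Basic.restrPushAdj j).unit.app G :=
    Adjunction.unit_leftAdjointUniq_hom_app (EtCoh.pullPushAdj j) (EtJ.Basic.restrPushAdj j) G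
  have h' : IsIso ((EtCoh.pullPushAdj j).unit.app G) ↔ IsIso ((EtJ.Basic.restrPushAdj j).unit.app G) := by
    rw [← h, isIso_comp_right_iff]
  have hmap : ∀ V : X.Etale, ((EtJ.Basic.restrPushAdj j).unit.app G).hom.app (op V) =
      G.obj.map (restrHom j V).op := fun V => by
    simp [EtJ.Basic.restrPushAdj, restrHom]
  rw [h']
  constructor
  · intro _ V
    rw [← hmap V]
    exact ConcreteCategory.bijective_of_isIso
      (((sheafToPresheaf _ _).map ((EtJ.Basic.restrPushAdj j).unit.app G)).app (op V))
  · intro hb
    exact Stalk.isIso_of_app_bijective _ fun V => by rw [hmap V]; exact hb V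

theorem isIso_of_local (G : EtCoh.Ab X)
    (hinj : ∀ V : X.Etale, Function.Injective (G.obj.map (restrHom j V).op))
    (hloc : ∀ (V : X.Etale) (t : EtCoh.sect G ((EtShriek.compEtale j).obj ((EtCoh.bc j).obj V))) (v : V.left),
      ∃ (V' : X.Etale) (a : V' ⟶ V), (∃ v' : V'.left, a.left.base v' = v) ∧
        ∃ s : EtCoh.sect G V', G.obj.map (restrHom j V').op s =
          G.obj.map ((EtShriek.compEtale j).map ((EtCoh.bc j).map a)).op t) :
    IsIso ((EtCoh.pullPushAdj j).unit.app G) := by
  have h : (EtCoh.pullPushAdj j).unit.app G ≫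
      (EtCoh.push j).map ((EtJ.Basic.pullIsoRestr j).hom.app G) = (EtJ.Basic.restrPushAdj j).unit.app G :=
    Adjunction.unit_leftAdjointUniq_hom_app (EtCoh.pullPushAdj j) (EtJ.Basic.restrPushAdj j) G
  rw [← isIso_comp_right_iff _ ((EtCoh.push j).map ((EtJ.Basic.pullIsoRestr j).hom.app G)), h]
  let φ := (EtJ.Basic.restrPushAdj j).unit.app G
  have hmap : ∀ V : X.Etale, φ.hom.app (op V) = G.obj.map (restrHom j V).op := fun V => by
    simp [φ, EtJ.Basic.restrPushAdj, restrHom]
  haveI : Mono φ := Sheaf.mono_of_injective φ fun V => by rw [hmap V.unop]; exact hinj V.unop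
  haveI : Sheaf.IsLocallySurjective φ := ⟨fun {V} t => (mem_topology_iff _).2 fun v => by
    obtain ⟨V', a, hv, s, hs⟩ := hloc V t v
    exact ⟨V', a, ⟨s, (congrArg (fun m => m s) (hmap V')).trans hs⟩, hv⟩⟩
  haveI : Epi φ := Sheaf.epi_of_isLocallySurjective φ
  exact isIso_of_mono_of_epi φ

/-- Comparison with an open subscheme with the same range. -/
theorem bijective_map (G : EtCoh.Ab X) [IsIso ((EtCoh.pullPushAdj j).unit.app G)] {V' V : X.Etale}
    (g : V' ⟶ V) [IsOpenImmersion g.left]
    (hg : Set.range g.left.base = V.hom.base ⁻¹' Set.range j.base) :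
    Function.Bijective (G.obj.map g.op) := by
  let e := IsOpenImmersion.isoOfRangeEq g.left (restrHom j V).left (hg.trans (range_restrHom j V).symm)
  have he : e.hom ≫ (restrHom j V).left = g.left := IsOpenImmersion.lift_fac _ _ _
  let e' : V' ⟶ (EtShriek.compEtale j).obj ((EtCoh.bc j).obj V) := MorphismProperty.Over.homMk e.hom (by
    refine (congrArg (e.hom ≫ ·) (MorphismProperty.Over.w (restrHom j V)).symm).trans ?_
    rw [← Category.assoc, he]
    exact MorphismProperty.Over.w g)
  haveI : IsIso e' := by
    haveI : IsIso e'.left := inferInstanceAs (IsIso e.hom)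
    exact (MorphismProperty.Over.isoMk (asIso e'.left) (MorphismProperty.Over.w e')).isIso_hom
  have hf : e' ≫ restrHom j V = g := MorphismProperty.Over.Hom.ext he
  rw [← hf, op_comp, Functor.map_comp]
  exact (ConcreteCategory.bijective_of_isIso (G.obj.map e'.op)).comp
    ((isIso_iff j G).1 inferInstance V)

end Groth.Agent.Lib.FibDense50.Crit
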