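import Groth.Agent.Lib.FibDense50.Const
import Groth.Agent.Lib.Flat55.CurveNormalizationBC
import Groth.Agent.S0163
import Groth.Agent.S0664
import Groth.Agent.S0101
import Groth.Agent.Lib.EtSite.Push
import Groth.Agent.Lib.EtSite.HensClosed
import Mathlib.AlgebraicGeometry.Fiber
import Mathlib.AlgebraicGeometry.Morphisms.UniversallyOpen
import Mathlib.CategoryTheory.Limits.Constructions.LimitsOfProductsAndEqualizers

/-!
# Fibrewise dense open subschemes of smooth schemes
-/

set_option autoImplicit false
set_option linter.style.haveILetI false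
set_option backward.isDefEq.respectTransparency false

universe u

open CategoryTheory CategoryTheory.Limits AlgebraicGeometry Opposite

noncomputable section

namespace Groth.Agent.Lib.FibDense50.Main

open Groth.Agent.Lib.EtSite Groth.Agent.Lib.EtSite.Basic Groth.Agent.Lib.EtGerm.Basic
open Groth.Agent.Lib.LCStrict50.Const

/-- An isomorphism on the objects of a diagram is an isomorphism on preserved limits. -/
theorem isIso_app_of_isLimit {C : Type*} [Category C] {D : Type*} [Category D] {A B : C ⥤ D} (α : A ⟶ B)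
    {J : Type*} [Category J] {K : J ⥤ C} {c : Cone K} (hc : IsLimit c)
    [PreservesLimit K A] [PreservesLimit K B] (h : ∀ k, IsIso (α.app (K.obj k))) : IsIso (α.app c.pt) := by
  haveI : IsIso (Functor.whiskerLeft K α) := @NatIso.isIso_of_isIso_app _ _ _ _ _ _ _ h
  have : α.app c.pt = ((isLimitOfPreserves A hc).conePointsIsoOfNatIso (isLimitOfPreserves B hc)
      (asIso (Functor.whiskerLeft K α))).hom := by
    refine (isLimitOfPreserves B hc).hom_ext fun k => ?_
    rw [IsLimit.conePointsIsoOfNatIso_hom_comp]
    exact (α.naturality (c.π.app k)).symm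
  rw [this]; infer_instance

/-- Every sheaf on the spectrum of a separably closed field is constant. -/
theorem nonempty_iso_cst (Ω : Type u) [Field Ω] [IsSepClosed Ω] (H : EtCoh.Ab (Spec (CommRingCat.of Ω))) :
    Nonempty (cst (Spec (CommRingCat.of Ω))
      (AddCommGrpCat.of (EtCoh.sect H (EtCoh.top (Spec (CommRingCat.of Ω))))) ≅ H) := by
  haveI : IsSepClosed (IsLocalRing.ResidueField Ω) := Sections.isSepClosed_of_ringEquiv
    (RingEquiv.ofBijective (IsLocalRing.residue Ω) ⟨RingHom.injective _, IsLocalRing.residue_surjective⟩)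
  haveI : IsIso (StrictHens.cpt Ω) := by
    haveI : IsIso (CommRingCat.ofHom (IsLocalRing.residue Ω)) := (RingEquiv.ofBijective (IsLocalRing.residue Ω)
      ⟨RingHom.injective _, IsLocalRing.residue_surjective⟩).toCommRingCatIso.isIso_hom
    exact inferInstanceAs (IsIso (Spec.map (CommRingCat.ofHom (IsLocalRing.residue Ω))))
  haveI := isIso_constMap (M := AddCommGrpCat.of (EtCoh.sect H (EtCoh.top (Spec (CommRingCat.of Ω))))) H
    (AddMonoidHom.id _) fun Ω' _ _ η p => by
      let φ := η ≫ inv (StrictHens.cpt Ω)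
      have hφ : φ ≫ StrictHens.cpt Ω = η := (Category.assoc _ _ _).trans (by rw [IsIso.inv_hom_id, Category.comp_id])
      have hb : Function.Bijective (extStk H φ hφ ∘ germ H (StrictHens.cpt Ω) (EtCoh.top _) (StrictHens.topPt Ω)) :=
        Function.Bijective.comp ⟨extStk_injective H φ hφ, extStk_surjective H φ hφ⟩ (germ_top_bijective Ω H)
      convert hb using 1
      funext m
      refine Eq.trans ?_ (extStk_germ H φ hφ _ _ m).symm
      exact congrArg (fun r => germ H η _ r m) (Gen50.Const.fiber_eq _ _)
  exact ⟨asIso (constMap H (AddMonoidHom.id _))⟩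

section

variable {X U S : Scheme.{u}} (f : X ⟶ S) [Smooth f] (j : U ⟶ X) [IsOpenImmersion j]

/-- The natural transformation under study. -/
def α : EtCoh.pull f ⟶ EtCoh.pull f ⋙ EtCoh.pull j ⋙ EtCoh.push j :=
  Functor.whiskerLeft (EtCoh.pull f) (EtCoh.pullPushAdj j).unit

theorem isIso_push (Z : Scheme.{u}) (h : Z ⟶ X) (O : Z.Opens) (hO : (O : Set Z) = h.base ⁻¹' Set.range j.base)
    (K : EtCoh.Ab Z) [IsIso ((EtCoh.pullPushAdj O.ι).unit.app K)] :
    IsIso ((EtCoh.pullPushAdj j).unit.app ((EtCoh.push h).obj K)) := by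
  refine (Crit.isIso_iff j _).2 fun V => ?_
  have sq := EtCoh.isPullback_bc_map h (Crit.restrHom j V)
  haveI : IsOpenImmersion ((EtCoh.bc h).map (Crit.restrHom j V)).left :=
    MorphismProperty.of_isPullback (P := @IsOpenImmersion) sq.flip inferInstance
  refine Crit.bijective_map O.ι K ((EtCoh.bc h).map (Crit.restrHom j V)) ?_
  rw [Scheme.Opens.range_ι, hO]
  have hw : pullback.fst V.hom h ≫ V.hom = ((EtCoh.bc h).obj V).hom ≫ h := pullback.condition
  have hr : Set.range ((EtCoh.bc h).map (Crit.restrHom j V)).left.base =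
      (pullback.fst V.hom h).base ⁻¹' Set.range (Crit.restrHom j V).left.base := by
    apply Set.Subset.antisymm
    · rintro _ ⟨z, rfl⟩
      exact ⟨_, (congrArg (fun m => m.base z) sq.w).symm⟩
    · rintro z ⟨w, hw'⟩
      obtain ⟨z', hz, -⟩ := Scheme.Pullback.exists_preimage_pullback
        (f := (pullback.fst V.hom h : ((EtCoh.bc h).obj V).left ⟶ V.left))
        (g := (Crit.restrHom j V).left) z w hw'.symm
      refine ⟨sq.isoPullback.inv.base z', ?_⟩
      rw [← Scheme.Hom.comp_apply, IsPullback.isoPullback_inv_fst]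
      exact hz
  rw [hr, Crit.range_restrHom]
  ext z
  simp only [Set.mem_preimage]
  rw [← Scheme.Hom.comp_apply, hw, Scheme.Hom.comp_apply]
  rfl

variable (hd : ∀ x : X, x ∈ closure (Set.range j.base ∩ {y : X | f.base y = f.base x}))

include hd in
theorem isIso_skyscraper (s : S) (H : EtCoh.Ab (Spec (CommRingCat.of (AlgebraicClosure (S.residueField s))))) :
    IsIso ((α f j).app ((EtCoh.push (Push.algPoint S s)).obj H)) := by
  let Ω := AlgebraicClosure (S.residueField s)
  let ι : Spec (CommRingCat.of Ω) ⟶ Spec (S.residueField s) :=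
    Spec.map (CommRingCat.ofHom (algebraMap (S.residueField s) Ω))
  let Z := (pullback (f.fiberToSpecResidueField s) ι : Scheme.{u})
  let h : Z ⟶ X := pullback.fst (f.fiberToSpecResidueField s) ι ≫ f.fiberι s
  let e : Z ⟶ Spec (CommRingCat.of Ω) := pullback.snd (f.fiberToSpecResidueField s) ι
  have c : IsPullback h e f (Push.algPoint S s) :=
    (IsPullback.of_hasPullback (f.fiberToSpecResidueField s) ι).paste_horiz
      (IsPullback.of_hasPullback f (S.fromSpecResidueField s))
  haveI : Smooth e := MorphismProperty.of_isPullback (P := @Smooth) c inferInstance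
  haveI : Subsingleton ↥(Spec (CommRingCat.of Ω)) := inferInstanceAs (Subsingleton (PrimeSpectrum Ω))
  haveI : IsLocallyNoetherian Z := LocallyOfFiniteType.isLocallyNoetherian e
  haveI : QuasiCompact (Push.algPoint S s) := ⟨fun _ _ _ => (Set.toFinite _).isCompact⟩
  have hred : ∀ (t : S) (K : Type u) [Field K] (k : Spec (CommRingCat.of K) ⟶ S),
      Set.range k = {t} → IsReduced (pullback f k) := fun t K _ k _ =>
    Flat55.CurveNormalizationBC.isReduced_of_smooth (pullback.snd f k)
  haveI := S0163.result f hred (Push.algPoint S s) h e c.flip H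
  obtain ⟨eH⟩ := nonempty_iso_cst Ω H
  let M := AddCommGrpCat.of (EtCoh.sect H (EtCoh.top (Spec (CommRingCat.of Ω))))
  let eK : (EtCoh.pull f).obj ((EtCoh.push (Push.algPoint S s)).obj H) ≅ (EtCoh.push h).obj (cst Z M) :=
    asIso (EtCoh.baseChange0 (Push.algPoint S s) f h e c.flip.w H) ≪≫
      (EtCoh.push h).mapIso ((EtCoh.pull e).mapIso eH.symm ≪≫ (Gen50.Const.iso e M).symm)
  let O : Z.Opens := h ⁻¹ᵁ j.opensRange
  have hdense : DenseRange O.ι.base := by
    change Dense (Set.range O.ι.base)
    rw [Scheme.Opens.range_ι]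
    have h1 : Dense ((f.fiberι s).base ⁻¹' Set.range j.base) := fun x => by
      rw [(f.fiberι s).isEmbedding.isInducing.closure_eq_preimage_closure_image, Set.mem_preimage,
        Set.image_preimage_eq_inter_range]
      have hx : f.base ((f.fiberι s).base x) = s := by
        have : (f.fiberι s).base x ∈ Set.range (f.fiberι s).base := ⟨x, rfl⟩
        rwa [Scheme.Hom.range_fiberι] at this
      refine closure_mono ?_ (hd ((f.fiberι s).base x))
      rw [Scheme.Hom.range_fiberι, hx]
      exact fun y hy => hy
    exact h1.preimage (pullback.fst (f.fiberToSpecResidueField s) ι).isOpenMap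
  haveI := FibDense50.Const.isIso_unit M O.ι (Flat55.CurveNormalizationBC.isNormalScheme_of_smooth e) hdense
  haveI := isIso_push j Z h O rfl (cst Z M)
  exact (NatTrans.isIso_app_iff_of_iso (EtCoh.pullPushAdj j).unit eK).2 inferInstance

/-- The product of skyscrapers. -/
abbrev god (F : EtCoh.Ab S) : EtCoh.Ab S :=
  ∏ᶜ fun s : S => (EtCoh.push (Push.algPoint S s)).obj ((EtCoh.pull (Push.algPoint S s)).obj F)

/-- The map to the product of skyscrapers. -/
abbrev godι (F : EtCoh.Ab S) : F ⟶ god F :=
  Pi.lift fun s : S => (EtCoh.pullPushAdj (Push.algPoint S s)).unit.app F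

theorem mono_godι (F : EtCoh.Ab S) : Mono (godι F) := by
  refine Stalk.mono_of_stalks _ fun s => ?_
  refine ⟨_, inferInstance, inferInstance, 𝟙 _ ≫ Push.algPoint S s, by
    rw [Category.id_comp]; exact Push.algPoint_apply S s _, fun a b hab => ?_⟩
  apply (HensClosed.unitStalk_injective (Push.algPoint S s) (𝟙 _) F).1
  let π := (Scheme.pointSmallEtale (𝟙 _ ≫ Push.algPoint S s)).sheafFiber.map
    (Pi.π (fun s : S => (EtCoh.push (Push.algPoint S s)).obj ((EtCoh.pull (Push.algPoint S s)).obj F)) s)
  have h1 : (Scheme.pointSmallEtale (𝟙 _ ≫ Push.algPoint S s)).sheafFiber.map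
      ((EtCoh.pullPushAdj (Push.algPoint S s)).unit.app F) =
      (Scheme.pointSmallEtale (𝟙 _ ≫ Push.algPoint S s)).sheafFiber.map (godι F) ≫ π := by
    rw [← Functor.map_comp, Pi.lift_π]
  unfold UnitStalk.unitStalk
  rw [show (Scheme.pointSmallEtale (𝟙 _ ≫ Push.algPoint S s)).sheafFiber.map
    (((EtCoh.bc (Push.algPoint S s)).sheafAdjunctionContinuous AddCommGrpCat.{u + 1} S.smallEtaleTopology
      (Spec (CommRingCat.of (AlgebraicClosure (S.residueField s)))).smallEtaleTopology).unit.app F) = _ from h1]
  simp only [ConcreteCategory.comp_apply]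
  rw [hab]

include hd in
theorem result (F : EtCoh.Ab S) : IsIso ((α f j).app F) := by
  haveI : GeometricallyReduced f := ⟨fun K _ y Z fst snd sq => by
    haveI : Smooth snd := MorphismProperty.of_isPullback (P := @Smooth) sq inferInstance
    exact Flat55.CurveNormalizationBC.isReduced_of_smooth snd⟩
  haveI := S0664.result f S
  haveI := S0101.result f
  haveI : PreservesLimitsOfSize.{u, u} (EtShriek.restrAlong j) :=
    (EtShriek.extZeroAdj j).rightAdjoint_preservesLimits
  haveI : PreservesLimitsOfShape (Discrete S) (EtCoh.pull j) :=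
    preservesLimitsOfShape_of_natIso (EtJ.Basic.pullIsoRestr j).symm
  haveI : PreservesLimitsOfSize.{u, u} (EtCoh.push j) :=
    (EtCoh.pullPushAdj j).rightAdjoint_preservesLimits
  haveI : PreservesLimitsOfSize.{0, 0} (EtCoh.push j) :=
    (EtCoh.pullPushAdj j).rightAdjoint_preservesLimits
  haveI : PreservesFiniteLimits (EtCoh.push j) := PreservesLimitsOfSize.preservesFiniteLimits _
  have hP : ∀ G : EtCoh.Ab S, IsIso ((α f j).app (god G)) := fun G =>
    isIso_app_of_isLimit (α f j) (productIsProduct _) fun s => isIso_skyscraper f j hd s.as _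
  haveI := mono_godι F
  haveI := mono_godι (cokernel (godι F))
  haveI := hP F
  haveI := hP (cokernel (godι F))
  let g := cokernel.π (godι F) ≫ godι (cokernel (godι F))
  have hk : IsLimit (KernelFork.ofι (godι F) (show godι F ≫ g = 0 by
      rw [← Category.assoc, cokernel.condition, zero_comp])) :=
    isKernelCompMono (Abelian.monoIsKernelOfCokernel (CokernelCofork.ofπ (cokernel.π (godι F))
      (cokernel.condition (godι F))) (cokernelIsCokernel _)) (godι (cokernel (godι F))) rfl
  exact isIso_app_of_isLimit (α f j) hk fun k => by cases k <;> assumption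

end

end Groth.Agent.Lib.FibDense50.Main
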